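import Cfsg.Agent.Omega.KM.Bridge
import Cfsg.Agent.Lib.AutSL2

/-!
# Quadratic subgroups on irreducible `F₂ SL₂(q)`-modules (S0342, (Empty) [E], bound (R1))

`quad` : `V` an irreducible `F₂ SL₂(q)`-module, `A ≤ SL₂(q)` elementary abelian and quadratic on `V`: `|A|² ≤ q` or
`|V| = q²`.
-/

set_option autoImplicit false

namespace Cfsg.Agent.OddCyclic.EmpR

open Matrix Finset Cfsg.Agent.Omega.KM

section Field

variable {F : Type*} [Field F] [Fintype F] [CharP F 2] {m : ℕ} (hm : Fintype.card F = 2 ^ m)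
include hm

omit [Fintype F] [CharP F 2] hm in
theorem add_pow_bits [CharP F 2] (x y : F) (I : Finset ℕ) :
    (x + y) ^ bits I = ∑ J ∈ I.powerset, x ^ bits J * y ^ bits (I \ J) := by
  rw [pow_bits]
  have : ∀ j ∈ I, (x + y) ^ 2 ^ j = x ^ 2 ^ j + y ^ 2 ^ j := fun j _ => add_pow_char_pow x y 2 j
  rw [Finset.prod_congr rfl this, Finset.prod_add]
  refine Finset.sum_congr rfl fun J _ => ?_
  rw [pow_bits, pow_bits]

theorem pair_eq {I : Finset ℕ} (hI : I ⊆ range m) {i j : ℕ} (hi : i ∈ I) (hj : j ∈ I) (hij : i ≠ j) {a b : F}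
    (h : ∀ v : Fin 2 → F, (v 0 * a + (v 0 * b + v 1)) ^ bits I - (v 0 * b + v 1) ^ bits I =
      (v 0 * a + v 1) ^ bits I - v 1 ^ bits I) : a ^ 2 ^ i * b ^ 2 ^ j = a ^ 2 ^ j * b ^ 2 ^ i := by
  have key : ∀ (c : F) (v : Fin 2 → F), (v 0 * c + v 1) ^ bits I = ∑ J ∈ I.powerset, c ^ bits J * mono I J v := by
    intro c v
    rw [add_pow_bits]
    refine Finset.sum_congr rfl fun J _ => ?_
    rw [mul_pow, mono_apply]
    ring
  have h1 : ∑ J ∈ I.powerset, ((a + b) ^ bits J - b ^ bits J - a ^ bits J + 0 ^ bits J) •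
      (mono I J : (Fin 2 → F) → F) = 0 := by
    funext v
    rw [Finset.sum_apply]
    have e1 := h v
    have e2 : v 0 * a + (v 0 * b + v 1) = v 0 * (a + b) + v 1 := by ring
    have e3 : v 1 ^ bits I = (v 0 * 0 + v 1) ^ bits I := by rw [mul_zero, zero_add]
    rw [e2, e3, key, key, key, key] at e1
    simp only [Pi.smul_apply, smul_eq_mul, Pi.zero_apply, add_mul, sub_mul, Finset.sum_add_distrib,
      Finset.sum_sub_distrib]
    linear_combination e1
  have hJ : ({i, j} : Finset ℕ) ∈ I.powerset := by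
    rw [Finset.mem_powerset]
    intro k hk
    rcases Finset.mem_insert.1 hk with rfl | hk
    · exact hi
    · rw [Finset.mem_singleton.1 hk]; exact hj
  have h2 := coord_zero hm hI _ h1 _ hJ
  have h3 : ∀ c : F, c ^ bits {i, j} = c ^ 2 ^ i * c ^ 2 ^ j := by
    intro c
    rw [pow_bits, Finset.prod_pair hij]
  rw [h3, h3, h3, h3, add_pow_char_pow, add_pow_char_pow, zero_pow (by positivity)] at h2
  have h4 : a ^ 2 ^ i * b ^ 2 ^ j + b ^ 2 ^ i * a ^ 2 ^ j = 0 := by linear_combination h2
  have h5 := CharTwo.add_eq_zero.1 h4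
  rw [h5]
  ring

/-- the elements fixed by `Frob ^ d`, `0 < d < m` -/
theorem card_fix {d : ℕ} (hd : 0 < d) (hdm : d < m) : (Nat.card {t : F | t ^ 2 ^ d = t}) ^ 2 ≤ Fintype.card F := by
  classical
  let K : Subfield F := RingHom.eqLocusField (iterateFrobenius F 2 d) (RingHom.id F)
  have hK : ∀ t : F, t ∈ K ↔ t ^ 2 ^ d = t := fun t => Iff.rfl
  have hfin : Finite K := inferInstance
  have h1 : Nat.card F = Nat.card K ^ Module.finrank K F := Module.natCard_eq_pow_finrank
  have h2 : Nat.card {t : F | t ^ 2 ^ d = t} = Nat.card K := rfl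
  rw [h2, ← Nat.card_eq_fintype_card, h1]
  have hK1 : 0 < Nat.card K := Nat.card_pos
  refine Nat.pow_le_pow_right hK1 ?_
  have h3 : 0 < Module.finrank K F := Module.finrank_pos
  by_contra hcon
  have h4 : Module.finrank K F = 1 := by omega
  rw [h4, pow_one] at h1
  -- then `K = F`
  have h5 : ∀ t : F, t ^ 2 ^ d = t := by
    intro t
    rw [← hK]
    have h6 : (K : Set F) = Set.univ := by
      apply Set.eq_of_subset_of_ncard_le (Set.subset_univ _)
      rw [Set.ncard_univ, h1]
      exact le_of_eq rfl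
    have : t ∈ (K : Set F) := by rw [h6]; exact Set.mem_univ t
    exact this
  have h6 : Fintype.card F ≤ 2 ^ d := by
    have hne : (Polynomial.X ^ 2 ^ d - Polynomial.X : Polynomial F) ≠ 0 :=
      FiniteField.X_pow_card_pow_sub_X_ne_zero F hd.ne' (by norm_num)
    have hdeg : (Polynomial.X ^ 2 ^ d - Polynomial.X : Polynomial F).natDegree = 2 ^ d :=
      FiniteField.X_pow_card_pow_sub_X_natDegree_eq F hd.ne' (by norm_num)
    have h7 : (Finset.univ : Finset F) ⊆ (Polynomial.X ^ 2 ^ d - Polynomial.X : Polynomial F).roots.toFinset := by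
      intro x _
      rw [Multiset.mem_toFinset, Polynomial.mem_roots hne, Polynomial.IsRoot]
      simp [h5 x]
    have h8 := Finset.card_le_card h7
    rw [Finset.card_univ] at h8
    have h9 := (Multiset.toFinset_card_le _).trans
      (Polynomial.card_roots' (Polynomial.X ^ 2 ^ d - Polynomial.X : Polynomial F))
    omega
  rw [hm] at h6
  have h7 := (Nat.pow_lt_pow_iff_right (a := 2) (by norm_num)).2 hdm
  omega

end Field

section Mod

variable {F : Type} [Field F] [Fintype F] [CharP F 2]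

theorem up_eq_uu (b : F) : Lib.SL2Mat.up b = uu b := by
  apply Subtype.ext
  ext i j
  fin_cases i <;> fin_cases j <;> rfl

/-- an elementary abelian 2-subgroup of `SL₂(F)` is conjugate to a group of upper unitriangular matrices -/
theorem exists_uu {A : Subgroup (SpecialLinearGroup (Fin 2) F)} (hA : ∀ a ∈ A, a * a = 1) :
    ∃ g : SpecialLinearGroup (Fin 2) F, ∀ a ∈ A, ∃ b : F, a = g * uu b * g⁻¹ := by
  haveI : Fact (Nat.Prime 2) := ⟨Nat.prime_two⟩
  have hp : IsPGroup 2 A := by
    rintro ⟨a, ha⟩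
    refine ⟨1, Subtype.ext ?_⟩
    rw [pow_one, pow_two]
    exact hA a ha
  obtain ⟨P, hP⟩ := hp.exists_le_sylow
  obtain ⟨g, hg⟩ := MulAction.exists_smul_eq (SpecialLinearGroup (Fin 2) F) (Lib.AutSL2.sylU F 2) P
  refine ⟨g, fun a ha => ?_⟩
  have h1 : a ∈ (P : Subgroup _) := hP ha
  rw [← hg, Sylow.coe_subgroup_smul, Subgroup.mem_pointwise_smul_iff_inv_smul_mem] at h1
  obtain ⟨b, hb⟩ := h1
  refine ⟨b, ?_⟩
  rw [← up_eq_uu, hb]
  simp [MulAut.smul_def, mul_assoc]

theorem uu_inj {a b : F} (h : (uu a : SpecialLinearGroup (Fin 2) F) = uu b) : a = b := by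
  have h1 := congrArg (fun x : SpecialLinearGroup (Fin 2) F => x.1 0 1) h
  simpa [uu] using h1

/-- **the quadratic bound** -/
theorem quad (_h4 : 4 ≤ Fintype.card F) {V : Type*} [CommGroup V] [Finite V] (hV : ∀ v : V, v * v = 1)
    (ρ : SpecialLinearGroup (Fin 2) F →* MulAut V) (hne : ∃ g v, ρ g v ≠ v)
    (irr : ∀ W : Subgroup V, (∀ g, ∀ w ∈ W, ρ g w ∈ W) → W = ⊥ ∨ W = ⊤)
    {A : Subgroup (SpecialLinearGroup (Fin 2) F)} (hA : ∀ a ∈ A, a * a = 1)
    (hq : ∀ a ∈ A, ∀ b ∈ A, ∀ v : V, ρ b (ρ a v * v⁻¹) = ρ a v * v⁻¹) :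
    Nat.card A ^ 2 ≤ Fintype.card F ∨ Nat.card V = Fintype.card F ^ 2 := by
  classical
  obtain ⟨m, -, hm⟩ := FiniteField.card F 2
  have hVn : Nontrivial V := by
    obtain ⟨g, v, hv⟩ := hne
    exact ⟨_, _, hv⟩
  let ρ' : SpecialLinearGroup (Fin 2) F →* AddMonoid.End (Additive V) :=
    { toFun := fun g => MonoidHom.toAdditive (ρ g).toMonoidHom
      map_one' := by
        ext v
        change Additive.ofMul (ρ 1 v.toMul) = v
        rw [map_one]; rfl
      map_mul' := fun g h => by
        ext v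
        change Additive.ofMul (ρ (g * h) v.toMul) = Additive.ofMul (ρ g (ρ h v.toMul))
        rw [map_mul]; rfl }
  have hρ' : ∀ g (v : V), ρ' g (Additive.ofMul v) = Additive.ofMul (ρ g v) := fun _ _ => rfl
  obtain ⟨I, hI, hIne, Ψ, hi, he, hr⟩ := f2 (V := Additive V) hm (fun v => hV v.toMul) ρ'
    (by
      intro W hW
      rcases irr (AddSubgroup.toSubgroup' W) (fun g w hw => hW g _ hw) with h | h
      · left
        rw [eq_bot_iff]
        intro w hw
        have h1 : w.toMul ∈ (AddSubgroup.toSubgroup' W) := hw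
        rw [h, Subgroup.mem_bot] at h1
        exact h1
      · right
        rw [eq_top_iff]
        intro w _
        have h1 : w.toMul ∈ (AddSubgroup.toSubgroup' W) := by rw [h]; exact Subgroup.mem_top _
        exact h1)
    (by
      obtain ⟨g, v, hv⟩ := hne
      exact ⟨g, Additive.ofMul v, fun h => hv (Additive.ofMul.injective h)⟩)
  by_cases h1 : ∃ i ∈ I, ∃ j ∈ I, i < j
  · -- two digits
    left
    obtain ⟨i, hiI, j, hjI, hij⟩ := h1
    have hjm : j < m := Finset.mem_range.1 (hI hjI)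
    obtain ⟨g, hg⟩ := exists_uu hA
    choose! β hβ using hg
    have hfun : ∀ a ∈ A, ∀ b ∈ A, β a ^ 2 ^ i * β b ^ 2 ^ j = β a ^ 2 ^ j * β b ^ 2 ^ i := by
      intro a ha b hb
      refine pair_eq hm hI hiI hjI hij.ne fun v => ?_
      -- the function `v₁ ^ μ`
      have h2 : linp (F := F) (bits I) (0, 1) ∈ Ψ.range := by
        rw [hr]
        exact AddSubgroup.subset_closure ⟨_, rfl⟩
      obtain ⟨w, hw⟩ := h2
      have h3 : ∀ x : V, ρ (uu (β b)) (ρ (uu (β a)) x * x⁻¹) = ρ (uu (β a)) x * x⁻¹ := by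
        intro x
        have h4 := hq a ha b hb (ρ g x)
        rw [hβ a ha, hβ b hb] at h4
        simp only [map_mul, map_inv, MulAut.mul_apply, MulAut.inv_apply_self] at h4
        apply (ρ g).injective
        simp only [map_mul, map_inv]
        exact h4
      have h4 : ρ' (uu (β b)) (ρ' (uu (β a)) w - w) = ρ' (uu (β a)) w - w := by
        have h5 := h3 w.toMul
        rw [sub_eq_add_neg]
        exact congrArg Additive.ofMul h5
      have h5 := congrArg Ψ h4
      rw [he, map_sub, he, hw, map_sub] at h5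
      have h6 := congrFun h5 v
      simp only [Pi.sub_apply, act_apply, vecMul_uu, linp, zero_mul, one_mul, zero_add] at h6
      simpa using h6
    have hinj : ∀ a ∈ A, ∀ b ∈ A, β a = β b → a = b := by
      intro a ha b hb h
      rw [hβ a ha, hβ b hb, h]
    refine le_trans (Nat.pow_le_pow_left ?_ 2) (card_fix hm (d := j - i) (by omega) (by omega))
    by_cases h0 : ∀ a ∈ A, β a = 0
    · -- `A = 1`
      have : Nat.card A ≤ 1 := by
        rw [Finite.card_le_one_iff_subsingleton]
        refine ⟨fun a b => Subtype.ext (hinj a a.2 b b.2 (by rw [h0 a a.2, h0 b b.2]))⟩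
      refine this.trans ?_
      have : Nonempty {t : F | t ^ 2 ^ (j - i) = t} := ⟨⟨1, one_pow _⟩⟩
      exact Nat.card_pos
    · push Not at h0
      obtain ⟨a, ha, ha0⟩ := h0
      refine Nat.card_le_card_of_injective (fun x : A => (⟨β x / β a, ?_⟩ : {t : F | t ^ 2 ^ (j - i) = t})) ?_
      · change (β x / β a) ^ 2 ^ (j - i) = β x / β a
        have h2 := hfun a ha x x.2
        have h3 : ((β x / β a) ^ 2 ^ (j - i)) ^ 2 ^ i = (β x / β a) ^ 2 ^ i := by
          rw [← pow_mul, ← pow_add, Nat.sub_add_cancel hij.le, div_pow, div_pow, div_eq_div_iff (pow_ne_zero _ ha0)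
            (pow_ne_zero _ ha0)]
          linear_combination h2
        exact (iterateFrobenius_inj F 2 i) h3
      · intro x y hxy
        have h2 : β x / β a = β y / β a := congrArg Subtype.val hxy
        rw [div_left_inj' ha0] at h2
        exact Subtype.ext (hinj x x.2 y y.2 h2)
  · -- one digit
    right
    push Not at h1
    obtain ⟨i, hiI⟩ := hIne
    have hIi : I = {i} := by
      refine Finset.eq_singleton_iff_unique_mem.2 ⟨hiI, fun j hj => ?_⟩
      exact le_antisymm (h1 i hiI j hj) (h1 j hj i hiI)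
    rw [hIi, bits_singleton] at hr
    let φ : (F × F) →+ ((Fin 2 → F) → F) :=
      { toFun := fun a => linp (2 ^ i) a
        map_zero' := by
          funext v
          change (0 * v 0 + 0 * v 1) ^ 2 ^ i = 0
          rw [zero_mul, zero_mul, add_zero, zero_pow (by positivity)]
        map_add' := fun a b => by
          funext v
          change ((a.1 + b.1) * v 0 + (a.2 + b.2) * v 1) ^ 2 ^ i = (a.1 * v 0 + a.2 * v 1) ^ 2 ^ i +
            (b.1 * v 0 + b.2 * v 1) ^ 2 ^ i
          rw [← add_pow_char_pow]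
          congr 1
          ring }
    have hφ : Function.Injective φ := by
      intro a b hab
      have e1 := congrFun hab ![1, 0]
      have e2 := congrFun hab ![0, 1]
      change (a.1 * 1 + a.2 * 0) ^ 2 ^ i = (b.1 * 1 + b.2 * 0) ^ 2 ^ i at e1
      change (a.1 * 0 + a.2 * 1) ^ 2 ^ i = (b.1 * 0 + b.2 * 1) ^ 2 ^ i at e2
      have e3 := (iterateFrobenius_inj F 2 i) e1
      have e4 := (iterateFrobenius_inj F 2 i) e2
      simp only [mul_one, mul_zero, add_zero, zero_add] at e3 e4
      exact Prod.ext e3 e4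
    have hcl : AddSubgroup.closure (Set.range (linp (F := F) (2 ^ i))) = φ.range := by
      have : Set.range (linp (F := F) (2 ^ i)) = (φ.range : Set ((Fin 2 → F) → F)) := rfl
      rw [this, AddSubgroup.closure_eq]
    rw [hcl] at hr
    have c1 : Nat.card (Additive V) = Nat.card Ψ.range := Nat.card_congr (AddMonoidHom.ofInjective hi).toEquiv
    have c2 : Nat.card (F × F) = Nat.card φ.range := Nat.card_congr (AddMonoidHom.ofInjective hφ).toEquiv
    have c3 : Nat.card V = Nat.card (Additive V) := Nat.card_congr Additive.ofMul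
    rw [c3, c1, hr, ← c2, Nat.card_prod, Nat.card_eq_fintype_card, pow_two]

end Mod

end Cfsg.Agent.OddCyclic.EmpR
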