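import Cfsg.Agent.OddCyclic.EmpR.Quad
import Cfsg.Agent.OddCyclic.FFSl2

/-!
# Quadratic subgroups on irreducible `F₂ SL₂(q)`-modules: `|A|² ≤ q` or `V` is natural
-/

set_option autoImplicit false
set_option linter.unusedSectionVars false

namespace Cfsg.Agent.OddCyclic.EmpR.QuadNat

open Matrix Finset Cfsg.Agent.Omega.KM Cfsg.Agent.OddCyclic.EmpR Cfsg.Agent.OddCyclic.T1Module
  Cfsg.Agent.OddCyclic.FFBasic Cfsg.Agent.OddCyclic.FFSl2

variable {F : Type} [Field F] [Fintype F] [CharP F 2]

/-- **the quadratic bound, with the natural module** -/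
theorem quad_nat (h4 : 4 ≤ Fintype.card F) {V : Type*} [CommGroup V] [Finite V] (hV : ∀ v : V, v * v = 1)
    (ρ : SpecialLinearGroup (Fin 2) F →* MulAut V) (hne : ∃ g v, ρ g v ≠ v)
    (irr : ∀ W : Subgroup V, (∀ g, ∀ w ∈ W, ρ g w ∈ W) → W = ⊥ ∨ W = ⊤)
    {A : Subgroup (SpecialLinearGroup (Fin 2) F)} (hA : ∀ a ∈ A, a * a = 1)
    (hq : ∀ a ∈ A, ∀ b ∈ A, ∀ v : V, ρ b (ρ a v * v⁻¹) = ρ a v * v⁻¹) :
    Nat.card A ^ 2 ≤ Fintype.card F ∨ IsNat ρ := by
  classical
  obtain ⟨m, -, hm⟩ := FiniteField.card F 2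
  have hVn : Nontrivial V := by
    obtain ⟨g, v, hv⟩ := hne
    exact ⟨_, _, hv⟩
  let ρ' : SpecialLinearGroup (Fin 2) F →* AddMonoid.End (Additive V) :=
    { toFun := fun g => MonoidHom.toAdditive (ρ g).toMonoidHom
      map_one' := by
        ext v
        change Additive.ofMul (ρ 1 v.toMul) = v
        rw [map_one]; rfl
      map_mul' := fun g h => by
        ext v
        change Additive.ofMul (ρ (g * h) v.toMul) = Additive.ofMul (ρ g (ρ h v.toMul))
        rw [map_mul]; rfl }
  have hρ' : ∀ g (v : V), ρ' g (Additive.ofMul v) = Additive.ofMul (ρ g v) := fun _ _ => rfl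
  obtain ⟨I, hI, hIne, Ψ, hi, he, hr⟩ := f2 (V := Additive V) hm (fun v => hV v.toMul) ρ'
    (by
      intro W hW
      rcases irr (AddSubgroup.toSubgroup' W) (fun g w hw => hW g _ hw) with h | h
      · left
        rw [eq_bot_iff]
        intro w hw
        have h1 : w.toMul ∈ (AddSubgroup.toSubgroup' W) := hw
        rw [h, Subgroup.mem_bot] at h1
        exact h1
      · right
        rw [eq_top_iff]
        intro w _
        have h1 : w.toMul ∈ (AddSubgroup.toSubgroup' W) := by rw [h]; exact Subgroup.mem_top _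
        exact h1)
    (by
      obtain ⟨g, v, hv⟩ := hne
      exact ⟨g, Additive.ofMul v, fun h => hv (Additive.ofMul.injective h)⟩)
  by_cases h1 : ∃ i ∈ I, ∃ j ∈ I, i < j
  · -- two digits
    left
    obtain ⟨i, hiI, j, hjI, hij⟩ := h1
    have hjm : j < m := Finset.mem_range.1 (hI hjI)
    obtain ⟨g, hg⟩ := exists_uu hA
    choose! β hβ using hg
    have hfun : ∀ a ∈ A, ∀ b ∈ A, β a ^ 2 ^ i * β b ^ 2 ^ j = β a ^ 2 ^ j * β b ^ 2 ^ i := by
      intro a ha b hb
      refine pair_eq hm hI hiI hjI hij.ne fun v => ?_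
      -- the function `v₁ ^ μ`
      have h2 : linp (F := F) (bits I) (0, 1) ∈ Ψ.range := by
        rw [hr]
        exact AddSubgroup.subset_closure ⟨_, rfl⟩
      obtain ⟨w, hw⟩ := h2
      have h3 : ∀ x : V, ρ (uu (β b)) (ρ (uu (β a)) x * x⁻¹) = ρ (uu (β a)) x * x⁻¹ := by
        intro x
        have h4 := hq a ha b hb (ρ g x)
        rw [hβ a ha, hβ b hb] at h4
        simp only [map_mul, map_inv, MulAut.mul_apply, MulAut.inv_apply_self] at h4
        apply (ρ g).injective
        simp only [map_mul, map_inv]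
        exact h4
      have h4 : ρ' (uu (β b)) (ρ' (uu (β a)) w - w) = ρ' (uu (β a)) w - w := by
        have h5 := h3 w.toMul
        rw [sub_eq_add_neg]
        exact congrArg Additive.ofMul h5
      have h5 := congrArg Ψ h4
      rw [he, map_sub, he, hw, map_sub] at h5
      have h6 := congrFun h5 v
      simp only [Pi.sub_apply, act_apply, vecMul_uu, linp, zero_mul, one_mul, zero_add] at h6
      simpa using h6
    have hinj : ∀ a ∈ A, ∀ b ∈ A, β a = β b → a = b := by
      intro a ha b hb h
      rw [hβ a ha, hβ b hb, h]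
    refine le_trans (Nat.pow_le_pow_left ?_ 2) (card_fix hm (d := j - i) (by omega) (by omega))
    by_cases h0 : ∀ a ∈ A, β a = 0
    · -- `A = 1`
      have : Nat.card A ≤ 1 := by
        rw [Finite.card_le_one_iff_subsingleton]
        refine ⟨fun a b => Subtype.ext (hinj a a.2 b b.2 (by rw [h0 a a.2, h0 b b.2]))⟩
      refine this.trans ?_
      have : Nonempty {t : F | t ^ 2 ^ (j - i) = t} := ⟨⟨1, one_pow _⟩⟩
      exact Nat.card_pos
    · push Not at h0
      obtain ⟨a, ha, ha0⟩ := h0
      refine Nat.card_le_card_of_injective (fun x : A => (⟨β x / β a, ?_⟩ : {t : F | t ^ 2 ^ (j - i) = t})) ?_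
      · change (β x / β a) ^ 2 ^ (j - i) = β x / β a
        have h2 := hfun a ha x x.2
        have h3 : ((β x / β a) ^ 2 ^ (j - i)) ^ 2 ^ i = (β x / β a) ^ 2 ^ i := by
          rw [← pow_mul, ← pow_add, Nat.sub_add_cancel hij.le, div_pow, div_pow, div_eq_div_iff (pow_ne_zero _ ha0)
            (pow_ne_zero _ ha0)]
          linear_combination h2
        exact (iterateFrobenius_inj F 2 i) h3
      · intro x y hxy
        have h2 : β x / β a = β y / β a := congrArg Subtype.val hxy
        rw [div_left_inj' ha0] at h2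
        exact Subtype.ext (hinj x x.2 y y.2 h2)
  · -- one digit
    right
    push Not at h1
    obtain ⟨i, hiI⟩ := hIne
    have hIi : I = {i} := by
      refine Finset.eq_singleton_iff_unique_mem.2 ⟨hiI, fun j hj => ?_⟩
      exact le_antisymm (h1 i hiI j hj) (h1 j hj i hiI)
    rw [hIi, bits_singleton] at hr
    let φ : (F × F) →+ ((Fin 2 → F) → F) :=
      { toFun := fun a => linp (2 ^ i) a
        map_zero' := by
          funext v
          change (0 * v 0 + 0 * v 1) ^ 2 ^ i = 0
          rw [zero_mul, zero_mul, add_zero, zero_pow (by positivity)]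
        map_add' := fun a b => by
          funext v
          change ((a.1 + b.1) * v 0 + (a.2 + b.2) * v 1) ^ 2 ^ i = (a.1 * v 0 + a.2 * v 1) ^ 2 ^ i +
            (b.1 * v 0 + b.2 * v 1) ^ 2 ^ i
          rw [← add_pow_char_pow]
          congr 1
          ring }
    have hφ : Function.Injective φ := by
      intro a b hab
      have e1 := congrFun hab ![1, 0]
      have e2 := congrFun hab ![0, 1]
      change (a.1 * 1 + a.2 * 0) ^ 2 ^ i = (b.1 * 1 + b.2 * 0) ^ 2 ^ i at e1
      change (a.1 * 0 + a.2 * 1) ^ 2 ^ i = (b.1 * 0 + b.2 * 1) ^ 2 ^ i at e2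
      have e3 := (iterateFrobenius_inj F 2 i) e1
      have e4 := (iterateFrobenius_inj F 2 i) e2
      simp only [mul_one, mul_zero, add_zero, zero_add] at e3 e4
      exact Prod.ext e3 e4
    have hcl : AddSubgroup.closure (Set.range (linp (F := F) (2 ^ i))) = φ.range := by
      have : Set.range (linp (F := F) (2 ^ i)) = (φ.range : Set ((Fin 2 → F) → F)) := rfl
      rw [this, AddSubgroup.closure_eq]
    rw [hcl] at hr
    have c1 : Nat.card (Additive V) = Nat.card Ψ.range := Nat.card_congr (AddMonoidHom.ofInjective hi).toEquiv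
    have c2 : Nat.card (F × F) = Nat.card φ.range := Nat.card_congr (AddMonoidHom.ofInjective hφ).toEquiv
    have c3 : Nat.card V = Nat.card (Additive V) := Nat.card_congr Additive.ofMul
    have hcard : Nat.card V = Fintype.card F ^ 2 := by
      rw [c3, c1, hr, ← c2, Nat.card_prod, Nat.card_eq_fintype_card, pow_two]
    -- the fixed points of the unitriangular group
    refine isNat_of h4 hV hne (Lib.AutSL2.sylU F 2) ?_
    have hmem : ∀ a : F, φ (a, 0) ∈ Ψ.range := by
      intro a
      rw [hr]
      exact ⟨_, rfl⟩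
    choose w hw using hmem
    have hfix : ∀ a : F, (w a).toMul ∈ CS ρ ((Lib.AutSL2.sylU F 2 : Sylow 2 (SpecialLinearGroup (Fin 2) F)) :
        Subgroup (SpecialLinearGroup (Fin 2) F)) := by
      rintro a x ⟨b, hb⟩
      have hb' : x = uu b := by rw [← up_eq_uu, ← hb]
      rw [hb']
      have h4 : ρ' (uu b) (w a) = w a := by
        apply hi
        rw [he, hw]
        funext v
        rw [act_apply, vecMul_uu]
        change (a * _ + 0 * _) ^ 2 ^ i = (a * v 0 + 0 * v 1) ^ 2 ^ i
        simp
      exact congrArg Additive.toMul h4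
    have hle : Nat.card F ≤ Nat.card (CS ρ ((Lib.AutSL2.sylU F 2 : Sylow 2 (SpecialLinearGroup (Fin 2) F)) :
        Subgroup (SpecialLinearGroup (Fin 2) F))) := by
      refine Nat.card_le_card_of_injective (fun a => ⟨(w a).toMul, hfix a⟩) ?_
      intro a b hab
      have h1 : w a = w b := Additive.toMul.injective (congrArg Subtype.val hab)
      have h2 := hw a
      rw [h1, hw b] at h2
      exact (congrArg Prod.fst (hφ h2)).symm
    have h5 := (CS ρ ((Lib.AutSL2.sylU F 2 : Sylow 2 (SpecialLinearGroup (Fin 2) F)) :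
        Subgroup (SpecialLinearGroup (Fin 2) F))).card_mul_index
    rw [hcard, pow_two] at h5
    rw [Nat.card_eq_fintype_card] at hle
    by_contra hcon
    push Not at hcon
    have h6 := Nat.mul_le_mul hle (Nat.succ_le_of_lt hcon)
    have h7 : 0 < Fintype.card F := Fintype.card_pos
    rw [h5, Nat.mul_succ] at h6
    omega

end Cfsg.Agent.OddCyclic.EmpR.QuadNat
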